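import Cfsg.Agent.H998.PiCy.Orth
import Cfsg.Agent.H216.Pi.Lie
import Cfsg.Agent.H326.PiC.Main
import Cfsg.Agent.LieClassical.OmegaReindex
import Cfsg.Agent.LieClassical.PomegaCard
import Cfsg.Agent.S0245
import Cfsg.Agent.S0246
import Cfsg.Agent.S0292
import Cfsg.Agent.S0293
import Cfsg.Agent.S0294

/-!
# S4324: the rows `CY t K` of `PSp`, `PΩ` (helper998)
-/

set_option autoImplicit false

namespace Cfsg.Agent.H998.PiCy

open Subgroup Cfsg Cfsg.Agent.H216.Pi QuadraticMap Matrix
open Cfsg.Agent.LieClassical.OmegaReindex Cfsg.Agent.LieClassical.PomegaCard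

universe u

/-! ### Arithmetic -/

theorem r_bound {q r m : ℕ} (hr : r.Prime) (h3 : 3 ≤ r) (hq : ¬ r ∣ q)
    (h : ∀ i < m, ¬ r ∣ q ^ (2 * (i + 1)) - 1) : 2 * m + 3 ≤ r := by
  have : Fact r.Prime := ⟨hr⟩
  obtain ⟨c, hc⟩ := (hr.odd_of_ne_two (by omega))
  have hq0 : 0 < q := Nat.pos_of_ne_zero (by rintro rfl; exact hq (dvd_zero r))
  have h1 : r ∣ q ^ (r - 1) - 1 := by
    have h2 : (q : ZMod r) ≠ 0 := by
      rw [Ne, ZMod.natCast_eq_zero_iff]
      exact hq
    have h4 := ZMod.pow_card_sub_one_eq_one h2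
    rw [← ZMod.natCast_eq_zero_iff, Nat.cast_sub (Nat.one_le_pow _ _ hq0)]
    push_cast
    rw [h4, sub_self]
  by_contra hcon
  refine h (c - 1) (by omega) ?_
  rwa [show 2 * (c - 1 + 1) = r - 1 by omega]

theorem bound_of_card {q r m c N : ℕ} (hr : r.Prime) (h3 : 3 ≤ r) (hc : c ∣ 4) (hN : ¬ r ∣ N) (hd1 : q ∣ c * N)
    (hd2 : ∀ i < m, q ^ (2 * (i + 1)) - 1 ∣ c * N) : 2 * m + 3 ≤ r := by
  have h1 : ¬ r ∣ c * N := by
    intro h
    rcases hr.dvd_mul.1 h with h2 | h2
    · have h4 := h2.trans hc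
      have h5 : r ∣ 2 ^ 2 := by simpa using h4
      have h6 := (Nat.prime_dvd_prime_iff_eq hr Nat.prime_two).1 (hr.dvd_of_dvd_pow h5)
      omega
    · exact hN h2
  exact r_bound hr h3 (fun h => h1 (h.trans hd1)) fun i hi h => h1 (h.trans (hd2 i hi))

/-- the row from the number of fused generators -/
theorem cy_of_fus {K : Type u} [Group K] [Finite K] [IsSimpleGroup K] (hK : ¬ IsMulCommutative K) {t : ℕ}
    (h : ∀ (s r : ℕ), s.Prime → r.Prime → 3 ≤ r → r < s → ¬ r ∣ Nat.card K → s ≠ t → ∀ y : K, orderOf y = s →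
      fus 1 y ≤ r - 2) : CY t K := by
  intro s r x hs hr h3 hrs hrK hst hsK hcyc hx _ _ _ hFC
  have : Fact s.Prime := ⟨hs⟩
  obtain ⟨y, hy⟩ := exists_prime_orderOf_dvd_card' (G := K) s hsK
  refine Cfsg.Agent.H326.PiC.false_of_fus_two hK hs hcyc hx hy ?_ hFC
  have h1 := h s r hs hr h3 hrs hrK hst y hy
  have h2 : 2 * (r - 2) ≤ mm r := le_max_right _ _
  omega

theorem cast_ne_zero {F : Type*} [Field F] {t s : ℕ} [CharP F t] (ht : t.Prime) (hs : s.Prime) (hst : s ≠ t) :
    (s : F) ≠ 0 := by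
  rw [Ne, CharP.cast_eq_zero_iff F t s]
  intro h
  exact hst ((Nat.prime_dvd_prime_iff_eq ht hs).1 h).symm

/-! ### Symplectic groups -/

section sp

variable {F : Type*} [Field F]

/-- `Sp` over the algebraic closure -/
noncomputable def rhoSp (m : ℕ) (F : Type*) [Field F] :
    Matrix.symplecticGroup (Fin m) F →* Matrix (Fin m ⊕ Fin m) (Fin m ⊕ Fin m) (AlgebraicClosure F) :=
  ((algebraMap F (AlgebraicClosure F)).mapMatrix :
    Matrix (Fin m ⊕ Fin m) (Fin m ⊕ Fin m) F →+* _).toMonoidHom.comp (Matrix.symplecticGroup (Fin m) F).subtype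

theorem rhoSp_injective (m : ℕ) : Function.Injective (rhoSp m F) := by
  intro g h hgh
  apply Subtype.ext
  exact Matrix.map_injective (algebraMap F (AlgebraicClosure F)).injective hgh

theorem fus_le_sp [Fintype F] {m : ℕ} (hm : 1 ≤ m) {K : Type*} [Group K] (e : K ≃* PSp m F) {s : ℕ} (hs : s.Prime)
    (hs2 : s ≠ 2) (hsF : (s : F) ≠ 0) {y : K} (hy : orderOf y = s) : fus 1 y ≤ 2 * m := by
  set π : Matrix.symplecticGroup (Fin m) F →* K := e.symm.toMonoidHom.comp (QuotientGroup.mk' _) with hπ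
  have hsurj : Function.Surjective π := e.symm.surjective.comp (QuotientGroup.mk'_surjective _)
  have hker : π.ker = Subgroup.center (Matrix.symplecticGroup (Fin m) F) := by
    ext z
    rw [MonoidHom.mem_ker]
    show e.symm (QuotientGroup.mk z) = 1 ↔ _
    rw [MulEquiv.map_eq_one_iff, QuotientGroup.eq_one_iff]
  have hfin : Finite (Matrix.symplecticGroup (Fin m) F) := inferInstance
  have hZ : ∀ z, π z = 1 → ∀ x, z * x = x * z := by
    intro z hz x
    have h1 : z ∈ Subgroup.center (Matrix.symplecticGroup (Fin m) F) := by rw [← hker]; exact hz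
    exact (Subgroup.mem_center_iff.1 h1 x).symm
  have hk : ¬ s ∣ Nat.card π.ker := by
    rw [hker, S0246.result rfl m hm]
    intro h
    exact hs2 ((Nat.prime_dvd_prime_iff_eq hs Nat.prime_two).1 (h.trans (Nat.gcd_dvd_left _ _)))
  obtain ⟨a, ha, -, hlift⟩ := exists_lift π hsurj hZ hs hk hy
  have hA : rhoSp m F a ^ s = 1 := by rw [← map_pow, ← ha, pow_orderOf_eq_one, map_one]
  have hA1 : rhoSp m F a ≠ 1 := by
    intro h
    rw [← map_one (rhoSp m F)] at h
    rw [rhoSp_injective m h, orderOf_one] at ha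
    exact hs.one_lt.ne ha
  have hsL : ((s : ℕ) : AlgebraicClosure F) ≠ 0 := by
    have := (map_ne_zero (algebraMap F (AlgebraicClosure F))).2 hsF
    rwa [map_natCast] at this
  obtain ⟨l, hl, hl1⟩ := exists_eigen (rhoSp m F a) hsL hA hA1
  have h1 := fus_le_card hs hy ha (fun k j h => (hlift k j h).imp fun g hg => hg.2) (rhoSp m F) hl hl1
  rwa [Fintype.card_sum, Fintype.card_fin, ← two_mul] at h1

end sp

theorem cy_psp {t : ℕ} {K : Type u} [Group K] [Finite K] [IsSimpleGroup K] (hK : ¬ IsMulCommutative K) (ht : t.Prime)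
    (h : IsPSpChar t K) : CY t K := by
  obtain ⟨F, _, _, _, m, hm, -, ⟨e⟩⟩ := h
  refine cy_of_fus hK fun s r hs hr h3 hrs hrK hst y hy => ?_
  have h1 := fus_le_sp (by omega) e hs (by omega) (cast_ne_zero ht hs hst) hy
  have hcard : Nat.gcd 2 (Fintype.card F - 1) * Nat.card K =
      Fintype.card F ^ (m ^ 2) * ∏ i ∈ Finset.range m, (Fintype.card F ^ (2 * (i + 1)) - 1) := by
    rw [Nat.card_congr e.toEquiv, ← S0246.result rfl m (by omega), ← S0245.result rfl m]
    exact Subgroup.card_mul_index (Subgroup.center ↥(Matrix.symplecticGroup (Fin m) F))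
  have h2 : 2 * m + 3 ≤ r := by
    refine bound_of_card (q := Fintype.card F) (c := Nat.gcd 2 (Fintype.card F - 1)) (N := Nat.card K) hr h3
      ((Nat.gcd_dvd_left _ _).trans (by norm_num)) hrK ?_ fun i hi => ?_
    · rw [hcard]
      exact (dvd_pow_self _ (by positivity)).mul_right _
    · rw [hcard]
      exact (Finset.dvd_prod_of_mem (fun i => Fintype.card F ^ (2 * (i + 1)) - 1) (Finset.mem_range.2 hi)).mul_left _
  omega

/-! ### Orthogonal groups -/

section orth

variable {F : Type} [Field F] {ι : Type} [Fintype ι] [DecidableEq ι]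

theorem equiv_of_eq {Q Q' : (ι → F) → F} (h : Q = Q') {K : Type*} [Group K] (e : K ≃* POmega F Q') :
    Nonempty (K ≃* POmega F Q) := by
  subst h
  exact ⟨e⟩

/-- the projection -/
def proj (Q : (ι → F) → F) {K : Type*} [Group K] (e : K ≃* POmega F Q) : Omega F Q →* K :=
  e.symm.toMonoidHom.comp (QuotientGroup.mk' _)

theorem proj_surjective (Q : (ι → F) → F) {K : Type*} [Group K] (e : K ≃* POmega F Q) :
    Function.Surjective (proj Q e) := e.symm.surjective.comp (QuotientGroup.mk'_surjective _)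

theorem proj_ker (Q : (ι → F) → F) {K : Type*} [Group K] (e : K ≃* POmega F Q) :
    (proj Q e).ker = Subgroup.center (Omega F Q) := by
  ext z
  rw [MonoidHom.mem_ker]
  show e.symm (QuotientGroup.mk z) = 1 ↔ _
  rw [MulEquiv.map_eq_one_iff, QuotientGroup.eq_one_iff]

end orth

theorem cy_oodd {t : ℕ} {K : Type u} [Group K] [Finite K] [IsSimpleGroup K] (hK : ¬ IsMulCommutative K) (ht : t.Prime)
    (h : IsPOmegaOddChar t K) : CY t K := by
  obtain ⟨F, _, _, _, m, hm, ho, ⟨e⟩⟩ := h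
  have hcard := S0292.result (F := F) rfl ho m hm
  rw [← Nat.card_congr e.toEquiv] at hcard
  obtain ⟨e⟩ := equiv_of_eq (coe_quadOdd m F) e
  have h2 : (2 : F) ≠ 0 := odd_card_iff.1 ho
  refine cy_of_fus hK fun s r hs hr h3 hrs hrK hst y hy => ?_
  have hι : Fintype.card (Unit ⊕ (Fin m ⊕ Fin m)) = 2 * m + 1 := by simp; ring
  have h1 := fus_le_orth (quadOdd m F) (quadOdd_nondegenerate h2) (by omega) (quadOdd_isotropic (by omega))
    (proj _ e) (proj_surjective _ e) (proj_ker _ e) hs (by omega) (cast_ne_zero ht hs hst) hy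
  rw [hι] at h1
  have h4 : 2 * m + 3 ≤ r := by
    refine bound_of_card (q := Fintype.card F) (c := 2) (N := Nat.card K) hr h3 (by norm_num) hrK ?_ fun i hi => ?_
    · rw [hcard]
      exact (dvd_pow_self _ (by positivity)).mul_right _
    · rw [hcard]
      exact (Finset.dvd_prod_of_mem (fun i => Fintype.card F ^ (2 * (i + 1)) - 1) (Finset.mem_range.2 hi)).mul_left _
  omega

theorem cy_oplus {t : ℕ} {K : Type u} [Group K] [Finite K] [IsSimpleGroup K] (hK : ¬ IsMulCommutative K) (ht : t.Prime)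
    (h : IsPOmegaPlusChar t K) : CY t K := by
  obtain ⟨F, _, _, _, m, hm, ⟨e⟩⟩ := h
  have hcard := S0293.result (F := F) rfl m hm
  rw [← Nat.card_congr e.toEquiv] at hcard
  obtain ⟨e⟩ := equiv_of_eq (coe_quadPlus m F) e
  refine cy_of_fus hK fun s r hs hr h3 hrs hrK hst y hy => ?_
  have hι : Fintype.card (Fin m ⊕ Fin m) = 2 * m := by simp; ring
  have h1 := fus_le_orth (quadPlus m F) quadPlus_nondegenerate (by omega) (quadPlus_isotropic (by omega))
    (proj _ e) (proj_surjective _ e) (proj_ker _ e) hs (by omega) (cast_ne_zero ht hs hst) hy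
  have h2 := fus_ne_orth (quadPlus m F) quadPlus_nondegenerate (by omega) hι (quadPlus_isotropic (by omega))
    (proj _ e) (proj_surjective _ e) (proj_ker _ e) hs (by omega) (cast_ne_zero ht hs hst) hy
  rw [hι] at h1
  have h4 : 2 * (m - 1) + 3 ≤ r := by
    refine bound_of_card (q := Fintype.card F) (c := Nat.gcd 4 (Fintype.card F ^ m - 1)) (N := Nat.card K) hr h3
      (Nat.gcd_dvd_left _ _) hrK ?_ fun i hi => ?_
    · rw [hcard]
      exact ((dvd_pow_self _ (Nat.mul_ne_zero (by omega) (by omega))).mul_right _).mul_right _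
    · rw [hcard]
      exact (Finset.dvd_prod_of_mem (fun i => Fintype.card F ^ (2 * (i + 1)) - 1) (Finset.mem_range.2 hi)).mul_left _
  omega

theorem cy_ominus {t : ℕ} {K : Type u} [Group K] [Finite K] [IsSimpleGroup K] (hK : ¬ IsMulCommutative K) (ht : t.Prime)
    (h : IsPOmegaMinusChar t K) : CY t K := by
  obtain ⟨F, _, _, _, m, a, b, hm, hab, ⟨e⟩⟩ := h
  have hcard := S0294.result (F := F) rfl m hm a b hab
  rw [← Nat.card_congr e.toEquiv] at hcard
  obtain ⟨e⟩ := equiv_of_eq (coe_quadMinus (m - 1) F a b) e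
  refine cy_of_fus hK fun s r hs hr h3 hrs hrK hst y hy => ?_
  have hι : Fintype.card ((Fin (m - 1) ⊕ Fin (m - 1)) ⊕ Fin 2) = 2 * m := by simp; omega
  have h1 := fus_le_orth (quadMinus (m - 1) F a b) (quadMinus_nondegenerate hab) (by omega)
    (quadMinus_isotropic (by omega) a b)
    (proj _ e) (proj_surjective _ e) (proj_ker _ e) hs (by omega) (cast_ne_zero ht hs hst) hy
  have h2 := fus_ne_orth (quadMinus (m - 1) F a b) (quadMinus_nondegenerate hab) (by omega) hι
    (quadMinus_isotropic (by omega) a b)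
    (proj _ e) (proj_surjective _ e) (proj_ker _ e) hs (by omega) (cast_ne_zero ht hs hst) hy
  rw [hι] at h1
  have h4 : 2 * (m - 1) + 3 ≤ r := by
    refine bound_of_card (q := Fintype.card F) (c := Nat.gcd 4 (Fintype.card F ^ m + 1)) (N := Nat.card K) hr h3
      (Nat.gcd_dvd_left _ _) hrK ?_ fun i hi => ?_
    · rw [hcard]
      exact ((dvd_pow_self _ (Nat.mul_ne_zero (by omega) (by omega))).mul_right _).mul_right _
    · rw [hcard]
      exact (Finset.dvd_prod_of_mem (fun i => Fintype.card F ^ (2 * (i + 1)) - 1) (Finset.mem_range.2 hi)).mul_left _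
  omega

end Cfsg.Agent.H998.PiCy
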