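import Mathlib

/-!
# S4324, section 7: an isometry permuting `2n` eigenlines cyclically (helper998)

`V` of dimension `2n` with a nondegenerate symmetric form, `T`, `h` isometries, `T h = h T ^ v`, `v` of order `2n` modulo
the prime `s`, `l` an eigenvalue of `T` of order `s`: the fixed space of `h` has dimension one.
-/

set_option autoImplicit false

namespace Cfsg.Agent.H998.PiCy

open Module

section

variable {L V : Type*} [Field L] [AddCommGroup V] [Module L V] [FiniteDimensional L V]

theorem core (B : LinearMap.BilinForm L V) (hBs : ∀ x y, B x y = B y x) (hnd : ∀ x, (∀ y, B x y = 0) → x = 0)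
    (T h : Module.End L V) (hT : ∀ x y, B (T x) (T y) = B x y) (hh : ∀ x y, B (h x) (h y) = B x y) {s n v : ℕ}
    (hs : s.Prime) (hs2 : s ≠ 2) (hn : 0 < n) (hv : orderOf (v : ZMod s) = 2 * n) (hc : T * h = h * T ^ v) {l : L}
    (hl : orderOf l = s) {e : V} (he : e ≠ 0) (hTe : T e = l • e) (hdim : finrank L V = 2 * n) :
    finrank L (LinearMap.ker (h - 1)) = 1 := by
  have : Fact s.Prime := ⟨hs⟩
  have hl0 : l ≠ 0 := by
    rintro rfl
    have h1 : (0 : L) ^ orderOf (0 : L) = 1 := pow_orderOf_eq_one _
    rw [hl, zero_pow hs.ne_zero] at h1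
    exact zero_ne_one h1
  -- powers of `l`
  have hlpow : ∀ i j : ℕ, l ^ i = l ^ j → (i : ZMod s) = (j : ZMod s) := by
    intro i j hij
    have h1 : (Units.mk0 l hl0) ^ i = (Units.mk0 l hl0) ^ j := Units.ext (by simpa using hij)
    rw [pow_eq_pow_iff_modEq, ← orderOf_units, Units.val_mk0, hl] at h1
    exact (ZMod.natCast_eq_natCast_iff _ _ _).2 h1
  -- `h` is injective
  have hinj : ∀ x, h x = 0 → x = 0 := by
    intro x hx
    apply hnd
    intro y
    rw [← hh x y, hx, map_zero, LinearMap.zero_apply]
  have hpow0 : ∀ (i : ℕ) (x : V), (h ^ i) x = 0 → x = 0 := by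
    intro i
    induction i with
    | zero => intro x hx; simpa using hx
    | succ i ih =>
      intro x hx
      rw [pow_succ, Module.End.mul_apply] at hx
      exact hinj _ (ih _ hx)
  have hhpow : ∀ (i : ℕ) (x y : V), B ((h ^ i) x) ((h ^ i) y) = B x y := by
    intro i
    induction i with
    | zero => intro x y; simp
    | succ i ih =>
      intro x y
      rw [pow_succ, Module.End.mul_apply, Module.End.mul_apply, ih, hh]
  -- the eigenvectors
  have hconj : ∀ i : ℕ, T * h ^ i = h ^ i * T ^ (v ^ i) := by
    intro i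
    induction i with
    | zero => simp
    | succ i ih =>
      have h1 : SemiconjBy h (T ^ v) T := hc.symm
      have h2 : h * (T ^ v) ^ (v ^ i) = T ^ (v ^ i) * h := h1.pow_right (v ^ i)
      calc T * h ^ (i + 1) = (T * h ^ i) * h := by rw [pow_succ, mul_assoc]
        _ = h ^ i * (T ^ (v ^ i) * h) := by rw [ih, mul_assoc]
        _ = h ^ i * (h * (T ^ v) ^ (v ^ i)) := by rw [h2]
        _ = h ^ (i + 1) * T ^ (v ^ (i + 1)) := by
          rw [← mul_assoc, ← pow_succ, ← pow_mul, pow_succ v, mul_comm v]
  have hTpow : ∀ m : ℕ, (T ^ m) e = l ^ m • e := by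
    intro m
    induction m with
    | zero => simp
    | succ m ih => rw [pow_succ', Module.End.mul_apply, ih, map_smul, hTe, smul_smul, pow_succ]
  set f : ℕ → V := fun i => (h ^ i) e with hf
  have hTf : ∀ i, T (f i) = l ^ (v ^ i) • f i := by
    intro i
    have h1 : T ((h ^ i) e) = (T * h ^ i) e := rfl
    show T ((h ^ i) e) = l ^ (v ^ i) • (h ^ i) e
    rw [h1, hconj, Module.End.mul_apply, hTpow, map_smul]
  have hf0 : ∀ i, f i ≠ 0 := fun i hi => he (hpow0 i e hi)
  -- linear independence
  have hli : LinearIndependent L (fun i : Fin (2 * n) => f i) := by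
    refine Module.End.eigenvectors_linearIndependent' T (fun i : Fin (2 * n) => l ^ (v ^ (i : ℕ))) ?_ _ ?_
    · intro i j hij
      have h1 := hlpow _ _ hij
      push_cast at h1
      have h2 := pow_injOn_Iio_orderOf (x := (v : ZMod s)) (by rw [hv]; exact i.2) (by rw [hv]; exact j.2) h1
      exact Fin.ext h2
    · intro i
      exact ⟨Module.End.mem_eigenspace_iff.2 (hTf i), hf0 i⟩
  have hspan : Submodule.span L (Set.range fun i : Fin (2 * n) => f i) = ⊤ :=
    hli.span_eq_top_of_card_eq_finrank' (by rw [Fintype.card_fin, hdim])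
  have hzero : ∀ x : V, (∀ i < 2 * n, B x (f i) = 0) → x = 0 := by
    intro x hx
    apply hnd
    intro y
    have hy : y ∈ Submodule.span L (Set.range fun i : Fin (2 * n) => f i) := by rw [hspan]; trivial
    induction hy using Submodule.span_induction with
    | mem z hz =>
      obtain ⟨i, rfl⟩ := hz
      exact hx i i.2
    | zero => exact map_zero _
    | add a b _ _ ha hb => rw [map_add, ha, hb, add_zero]
    | smul c a _ ha => rw [map_smul, ha, smul_zero]
  -- pairing
  have hv0 : (v : ZMod s) ^ (2 * n) = 1 := by rw [← hv]; exact pow_orderOf_eq_one _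
  have hpair : ∀ (x : V) (i : ℕ), T x = l • x → B x (f i) ≠ 0 → i < 2 * n → i = n := by
    intro x i hx hB hi
    have h1 : B x (f i) = l ^ (1 + v ^ i) * B x (f i) := by
      have h2 := hT x (f i)
      rw [hx, hTf, map_smul, map_smul, LinearMap.smul_apply, smul_eq_mul, smul_eq_mul] at h2
      rw [pow_add, pow_one, mul_comm l, mul_assoc, h2]
    have h3 : l ^ (1 + v ^ i) = l ^ 0 := by
      rw [pow_zero]
      exact mul_right_cancel₀ hB (by rw [one_mul]; exact h1.symm)
    have h4 := hlpow _ _ h3
    push_cast at h4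
    have h5 : (v : ZMod s) ^ i = -1 := by
      rw [eq_neg_iff_add_eq_zero, add_comm]
      exact h4
    have h6 : 2 * n ∣ 2 * i := by
      rw [← hv]
      apply orderOf_dvd_of_pow_eq_one
      rw [mul_comm, pow_mul, h5, neg_one_sq]
    obtain ⟨c, hc⟩ := Nat.dvd_of_mul_dvd_mul_left (by norm_num) h6
    have hc2 : c < 2 := by
      by_contra hcon
      have : 2 * n ≤ n * c := by nlinarith
      omega
    interval_cases c
    · exfalso
      rw [mul_zero] at hc
      rw [hc, pow_zero] at h5
      have h7 : ((2 : ℕ) : ZMod s) = 0 := by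
        push_cast
        have : (1 : ZMod s) + 1 = 0 := by nth_rewrite 1 [h5]; exact neg_add_cancel 1
        rw [← this]; norm_num
      rw [ZMod.natCast_eq_zero_iff] at h7
      exact hs2 ((Nat.prime_dvd_prime_iff_eq hs Nat.prime_two).1 h7)
    · rw [hc, mul_one]
  -- `h ^ 2n e = e`
  have hTN : T (f (2 * n)) = l • f (2 * n) := by
    rw [hTf]
    have h1 : l ^ (v ^ (2 * n)) = l := by
      have h2 : ((v ^ (2 * n) : ℕ) : ZMod s) = ((1 : ℕ) : ZMod s) := by
        push_cast
        exact hv0
      have h3 := (ZMod.natCast_eq_natCast_iff _ _ _).1 h2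
      have h4 : (Units.mk0 l hl0) ^ (v ^ (2 * n)) = (Units.mk0 l hl0) ^ 1 := by
        rw [pow_eq_pow_iff_modEq, ← orderOf_units, Units.val_mk0, hl]
        exact h3
      have h5 := congrArg Units.val h4
      simpa using h5
    rw [h1]
  have hN : f (2 * n) = e := by
    rw [← sub_eq_zero]
    apply hzero
    intro i hi
    rw [map_sub, LinearMap.sub_apply, sub_eq_zero]
    by_cases hin : i = n
    · subst hin
      have h1 : f (2 * i) = (h ^ i) (f i) := by
        show (h ^ (2 * i)) e = (h ^ i) ((h ^ i) e)
        rw [two_mul, pow_add]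
        rfl
      rw [h1, hBs e]
      exact hhpow i (f i) e
    · have h1 : B (f (2 * n)) (f i) = 0 := by
        by_contra hB
        exact hin (hpair _ i hTN hB hi)
      have h2 : B e (f i) = 0 := by
        by_contra hB
        exact hin (hpair _ i hTe hB hi)
      rw [h1, h2]
  -- the fixed space
  apply le_antisymm
  · let g : LinearMap.ker (h - 1) →ₗ[L] L := (B.flip e).comp (LinearMap.ker (h - 1)).subtype
    have hg : Function.Injective g := by
      rw [← LinearMap.ker_eq_bot, LinearMap.ker_eq_bot']
      rintro ⟨x, hx⟩ hgx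
      have hgx' : B x e = 0 := hgx
      have hx' : h x = x := by
        rw [LinearMap.mem_ker, LinearMap.sub_apply, sub_eq_zero] at hx
        exact hx
      have hxp : ∀ i : ℕ, (h ^ i) x = x := by
        intro i
        induction i with
        | zero => simp
        | succ i ih => rw [pow_succ, Module.End.mul_apply, hx', ih]
      apply Subtype.ext
      apply hzero x
      intro i _
      have h1 := hhpow i x e
      rw [hxp] at h1
      exact h1.trans hgx'
    have h1 := LinearMap.finrank_le_finrank_of_injective hg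
    rwa [Module.finrank_self] at h1
  · rw [Nat.one_le_iff_ne_zero, Ne, Submodule.finrank_eq_zero]
    intro hbot
    set w := ∑ i ∈ Finset.range (2 * n), f i with hw
    have hw1 : h w = w := by
      rw [hw, map_sum]
      have h1 : ∀ i, h (f i) = f (i + 1) := by
        intro i
        show h ((h ^ i) e) = (h ^ (i + 1)) e
        rw [pow_succ']
        rfl
      simp_rw [h1]
      have h2 := Finset.sum_range_succ f (2 * n)
      have h3 := Finset.sum_range_succ' f (2 * n)
      rw [h3] at h2
      have h4 : f 0 = e := by simp [hf]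
      rw [h4, hN] at h2
      exact add_right_cancel h2
    have hw2 : w ∈ LinearMap.ker (h - 1) := by
      rw [LinearMap.mem_ker, LinearMap.sub_apply, sub_eq_zero]
      exact hw1
    rw [hbot, Submodule.mem_bot] at hw2
    have h5 : ∑ i : Fin (2 * n), (1 : L) • f i = 0 := by
      simp_rw [one_smul]
      rw [← hw2, hw, Finset.sum_range]
    have h6 := Fintype.linearIndependent_iff.1 hli (fun _ => 1) h5 ⟨0, by omega⟩
    exact one_ne_zero h6

end

end Cfsg.Agent.H998.PiCy
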