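import Cfsg.Agent.H216.Pi.Base

/-!
# S4324, section 7: the number of fused generators and eigenvalues (helper998)

`π : Γ → K` surjective with central kernel of order prime to `s`, `ρ : Γ → Mat(L)` injective, `y : K` of order `s`:

* `exists_lift` : `y` lifts to `a` of order `s`, and conjugations of `y` to its powers lift;
* `exists_eigen` : a matrix `A ≠ 1` with `A ^ s = 1` has an eigenvalue `≠ 1`;
* `fus_le` : `fus 1 y` is at most the number of the eigenvalues `≠ 1` of `ρ a`;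
* `fus_le_card` : `fus 1 y ≤ N`.
-/

set_option autoImplicit false

namespace Cfsg.Agent.H998.PiCy

open Subgroup Cfsg Cfsg.Agent.H216.Pi Polynomial

theorem mem_closure_conj {K : Type*} [Group K] {α : MulAut K}
    (h : α ∈ closure ({1} ∪ Set.range (MulAut.conj : K → MulAut K))) : ∃ k : K, α = MulAut.conj k := by
  have h1 : closure ({1} ∪ Set.range (MulAut.conj : K → MulAut K)) ≤ (MulAut.conj : K →* MulAut K).range := by
    rw [closure_le]
    rintro β (h2 | ⟨k, rfl⟩)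
    · rw [Set.mem_singleton_iff.1 h2]
      exact one_mem _
    · exact ⟨k, rfl⟩
  obtain ⟨k, hk⟩ := h1 h
  exact ⟨k, hk.symm⟩

/-- lift of an element of order `s` -/
theorem exists_lift {Γ K : Type*} [Group Γ] [Finite Γ] [Group K] (π : Γ →* K) (hπ : Function.Surjective π)
    (hZ : ∀ z, π z = 1 → ∀ x, z * x = x * z) {s : ℕ} (hs : s.Prime) (hk : ¬ s ∣ Nat.card π.ker) {y : K}
    (hy : orderOf y = s) :
    ∃ a : Γ, orderOf a = s ∧ π a = y ∧
      ∀ (k : K) (j : ℕ), k * y * k⁻¹ = y ^ j → ∃ g : Γ, π g = k ∧ g * a * g⁻¹ = a ^ j := by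
  obtain ⟨b, hb⟩ := hπ y
  set c := Nat.card π.ker with hc
  have hcop : Nat.Coprime c s := ((Nat.Prime.coprime_iff_not_dvd hs).2 hk).symm
  obtain ⟨m, hm⟩ := Nat.exists_mul_mod_eq_one_of_coprime hcop hs.one_lt
  have hpow : ∀ z : Γ, π z = 1 → z ^ c = 1 := by
    intro z hz
    have h1 : (⟨z, hz⟩ : π.ker) ^ c = 1 := pow_card_eq_one'
    exact congrArg Subtype.val h1
  obtain ⟨a, ha1, ha2, ha3⟩ : ∃ a : Γ, π a = y ∧ a ^ s = 1 ∧ orderOf a = s := by
    have ha1 : π (b ^ (c * m)) = y := by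
      rw [map_pow, hb, ← Nat.div_add_mod (c * m) s, hm.2, pow_add, pow_mul, ← hy, pow_orderOf_eq_one, one_pow, one_mul,
        pow_one]
    have ha2 : (b ^ (c * m)) ^ s = 1 := by
      rw [← pow_mul, mul_comm (c * m) s, pow_mul, pow_mul, hpow (b ^ s), one_pow]
      rw [map_pow, hb, ← hy, pow_orderOf_eq_one]
    refine ⟨b ^ (c * m), ha1, ha2, ?_⟩
    have : Fact s.Prime := ⟨hs⟩
    refine orderOf_eq_prime ha2 fun h => ?_
    rw [h, map_one] at ha1
    rw [← ha1, orderOf_one] at hy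
    exact hs.one_lt.ne hy
  refine ⟨a, ha3, ha1, fun k j hkj => ?_⟩
  obtain ⟨g, hg⟩ := hπ k
  refine ⟨g, hg, ?_⟩
  set w := (g * a * g⁻¹) * (a ^ j)⁻¹ with hw
  have hw1 : π w = 1 := by
    rw [hw, map_mul, map_mul, map_mul, map_inv, map_inv, map_pow, hg, ha1, hkj, mul_inv_cancel]
  have hw2 : g * a * g⁻¹ = w * a ^ j := by rw [hw, inv_mul_cancel_right]
  have hw3 : w ^ s = 1 := by
    have h1 : (g * a * g⁻¹) ^ s = w ^ s * (a ^ j) ^ s := by
      rw [hw2]
      exact (show Commute w (a ^ j) from hZ w hw1 _).mul_pow s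
    rw [conj_pow, ha2, mul_one, mul_inv_cancel, ← pow_mul, mul_comm j s, pow_mul, ha2, one_pow, mul_one] at h1
    exact h1.symm
  have hw4 : w = 1 := by
    have h1 : orderOf w ∣ c := orderOf_dvd_of_pow_eq_one (hpow w hw1)
    have h2 : orderOf w ∣ s := orderOf_dvd_of_pow_eq_one hw3
    have h3 : orderOf w ∣ 1 := by
      rw [← hcop.gcd_eq_one]
      exact Nat.dvd_gcd h1 h2
    exact orderOf_eq_one_iff.1 (Nat.dvd_one.1 h3)
  rw [hw2, hw4, one_mul]

section lin

variable {L : Type*} [Field L] [IsAlgClosed L] {ι : Type*} [Fintype ι] [DecidableEq ι]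

/-- an eigenvalue `≠ 1` -/
theorem exists_eigen (A : Matrix ι ι L) {s : ℕ} (hsL : (s : L) ≠ 0) (hA : A ^ s = 1) (h1 : A ≠ 1) :
    ∃ l ∈ spectrum L A, l ≠ 1 := by
  have hne : Nontrivial (Matrix ι ι L) := ⟨A, 1, h1⟩
  by_contra hcon
  push Not at hcon
  set q : L[X] := ∑ i ∈ Finset.range s, X ^ i with hq
  have h2 : spectrum L (aeval A q) = (fun k => eval k q) '' spectrum L A :=
    spectrum.map_polynomial_aeval_of_nonempty A q (spectrum.nonempty_of_isAlgClosed_of_finiteDimensional L A)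
  have h3 : (0 : L) ∉ spectrum L (aeval A q) := by
    rw [h2]
    rintro ⟨k, hk, hk0⟩
    rw [hcon k hk] at hk0
    apply hsL
    simpa [hq, eval_finsetSum] using hk0
  rw [spectrum.zero_notMem_iff] at h3
  have h4 : (A - 1) * aeval A q = 0 := by
    have h5 : aeval A q = ∑ i ∈ Finset.range s, A ^ i := by
      simp [hq]
    rw [h5, mul_geom_sum, hA, sub_self]
  obtain ⟨u, hu⟩ := h3
  rw [← hu] at h4
  have h6 : A - 1 = 0 := by
    have := congrArg (· * (↑u⁻¹ : Matrix ι ι L)) h4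
    simpa [mul_assoc] using this
  exact h1 (sub_eq_zero.1 h6)

omit [IsAlgClosed L] [Fintype ι] [DecidableEq ι] in
theorem modEq_of_pow {l : L} {s i j : ℕ} (hs : 0 < s) (hl : orderOf l = s) (h : l ^ i = l ^ j) : i ≡ j [MOD s] := by
  have h0 : l ≠ 0 := by
    rintro rfl
    have h1 : (0 : L) ^ orderOf (0 : L) = 1 := pow_orderOf_eq_one _
    rw [hl, zero_pow hs.ne'] at h1
    exact zero_ne_one h1
  have h1 : (Units.mk0 l h0) ^ i = (Units.mk0 l h0) ^ j := Units.ext (by simpa using h)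
  rw [pow_eq_pow_iff_modEq, ← orderOf_units, Units.val_mk0, hl] at h1
  exact h1

omit [IsAlgClosed L] in
theorem orderOf_eigen {A : Matrix ι ι L} {s : ℕ} (hs : s.Prime) (hA : A ^ s = 1) {l : L} (hl : l ∈ spectrum L A)
    (h1 : l ≠ 1) : orderOf l = s := by
  have : Fact s.Prime := ⟨hs⟩
  refine orderOf_eq_prime ?_ h1
  have h2 : l ^ s ∈ spectrum L (A ^ s) := spectrum.pow_mem_pow A s hl
  by_cases hne : Nontrivial (Matrix ι ι L)
  · rw [hA, spectrum.one_eq] at h2
    exact h2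
  · rw [not_nontrivial_iff_subsingleton] at hne
    rw [spectrum.of_subsingleton] at hl
    exact hl.elim

omit [IsAlgClosed L] in
theorem finite_spectrum (A : Matrix ι ι L) : (spectrum L A).Finite := by
  classical
  refine (A.charpoly.roots.toFinset.finite_toSet).subset fun l hl => ?_
  rw [Matrix.mem_spectrum_iff_isRoot_charpoly] at hl
  rw [Finset.mem_coe, Multiset.mem_toFinset, Polynomial.mem_roots A.charpoly_monic.ne_zero]
  exact hl

omit [IsAlgClosed L] in
theorem ncard_spectrum_le (A : Matrix ι ι L) : (spectrum L A).ncard ≤ Fintype.card ι := by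
  classical
  have h1 : spectrum L A ⊆ (A.charpoly.roots.toFinset : Set L) := by
    intro l hl
    rw [Matrix.mem_spectrum_iff_isRoot_charpoly] at hl
    rw [Finset.mem_coe, Multiset.mem_toFinset, Polynomial.mem_roots A.charpoly_monic.ne_zero]
    exact hl
  calc (spectrum L A).ncard ≤ (A.charpoly.roots.toFinset : Set L).ncard :=
        Set.ncard_le_ncard h1 (Finset.finite_toSet _)
    _ = A.charpoly.roots.toFinset.card := Set.ncard_coe_finset _
    _ ≤ Multiset.card A.charpoly.roots := Multiset.toFinset_card_le _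
    _ ≤ A.charpoly.natDegree := Polynomial.card_roots' _
    _ = Fintype.card ι := Matrix.charpoly_natDegree_eq_dim A

variable {Γ K : Type*} [Group Γ] [Group K] {s : ℕ}

omit [IsAlgClosed L] in
/-- powers of eigenvalues -/
theorem pow_mem_spectrum (ρ : Γ →* Matrix ι ι L) {a g : Γ} {j : ℕ} (h : g * a * g⁻¹ = a ^ j) {l : L}
    (hl : l ∈ spectrum L (ρ a)) : l ^ j ∈ spectrum L (ρ a) := by
  have h1 : l ^ j ∈ spectrum L (ρ a ^ j) := spectrum.pow_mem_pow _ j hl
  rw [← map_pow, ← h, map_mul, map_mul] at h1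
  let u : (Matrix ι ι L)ˣ := ⟨ρ g, ρ g⁻¹, by rw [← map_mul, mul_inv_cancel, map_one],
    by rw [← map_mul, inv_mul_cancel, map_one]⟩
  have h2 : spectrum L ((u : Matrix ι ι L) * ρ a * (↑u⁻¹ : Matrix ι ι L)) = spectrum L (ρ a) :=
    spectrum.units_conjugate
  rw [← h2]
  exact h1

omit [IsAlgClosed L] in
/-- `fus 1 y` is at most the number of the eigenvalues `≠ 1` of a lift of `y`. -/
theorem fus_le {y : K} (hs : s.Prime) (hy : orderOf y = s) {a : Γ} (ha : orderOf a = s)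
    (hlift : ∀ (k : K) (j : ℕ), k * y * k⁻¹ = y ^ j → ∃ g : Γ, g * a * g⁻¹ = a ^ j)
    (ρ : Γ →* Matrix ι ι L) {l : L} (hl : l ∈ spectrum L (ρ a)) (hl1 : l ≠ 1) :
    fus 1 y ≤ (spectrum L (ρ a) \ {1}).ncard := by
  have hla : orderOf l = s := orderOf_eigen hs (by rw [← map_pow, ← ha, pow_orderOf_eq_one, map_one]) hl hl1
  have hfo : IsOfFinOrder y := by
    rw [← orderOf_pos_iff, hy]
    exact hs.pos
  unfold fus
  set T := {z : K // z ∈ zpowers y ∧ ∃ α ∈ Subgroup.closure ({1} ∪ Set.range (MulAut.conj : K → MulAut K)), α y = z}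
    with hT
  have key : ∀ z : T, ∃ j : ℕ, y ^ j = z.1 ∧ l ^ j ∈ spectrum L (ρ a) \ {1} := by
    rintro ⟨z, hz, α, hα, hαz⟩
    obtain ⟨k, rfl⟩ := mem_closure_conj hα
    rw [MulAut.conj_apply] at hαz
    obtain ⟨j, hj⟩ := hfo.mem_powers_iff_mem_zpowers.2 hz
    have hj' : y ^ j = z := hj
    refine ⟨j, hj', ?_, ?_⟩
    · obtain ⟨g, hg⟩ := hlift k j (by rw [hαz, hj'])
      exact pow_mem_spectrum ρ hg hl
    · rw [Set.mem_singleton_iff, ← orderOf_dvd_iff_pow_eq_one, hla, ← hy, orderOf_dvd_iff_pow_eq_one, hj', ← hαz,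
        conj_eq_one_iff]
      intro h1
      rw [h1, orderOf_one] at hy
      exact hs.one_lt.ne hy
  choose j hj1 hj2 using key
  have hfin := finite_spectrum (ρ a)
  have hfin' : Finite ↥(spectrum L (ρ a) \ {1}) := (hfin.subset Set.sdiff_subset).to_subtype
  rw [← Nat.card_coe_set_eq]
  refine Nat.card_le_card_of_injective (fun z : T => (⟨l ^ j z, hj2 z⟩ : ↥(spectrum L (ρ a) \ {1}))) ?_
  intro z w hzw
  have h1 : l ^ j z = l ^ j w := congrArg Subtype.val hzw
  apply Subtype.ext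
  rw [← hj1 z, ← hj1 w, pow_eq_pow_iff_modEq, hy]
  exact modEq_of_pow hs.pos hla h1

omit [IsAlgClosed L] in
theorem fus_le_card {y : K} (hs : s.Prime) (hy : orderOf y = s) {a : Γ} (ha : orderOf a = s)
    (hlift : ∀ (k : K) (j : ℕ), k * y * k⁻¹ = y ^ j → ∃ g : Γ, g * a * g⁻¹ = a ^ j)
    (ρ : Γ →* Matrix ι ι L) {l : L} (hl : l ∈ spectrum L (ρ a)) (hl1 : l ≠ 1) : fus 1 y ≤ Fintype.card ι :=
  (fus_le hs hy ha hlift ρ hl hl1).trans
    ((Set.ncard_le_ncard Set.sdiff_subset (finite_spectrum _)).trans (ncard_spectrum_le _))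

end lin

end Cfsg.Agent.H998.PiCy
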