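import Cfsg.Agent.H998.PiCy.Fus

/-!
# S4324, section 7: a generator of `N(⟨y⟩) / C(y)` (helper998)
-/

set_option autoImplicit false

namespace Cfsg.Agent.H998.PiCy

open Subgroup Cfsg Cfsg.Agent.H216.Pi

section

variable {K : Type*} [Group K] {s : ℕ}

theorem pow_eq_of_cast {y : K} (hy : orderOf y = s) {i j : ℕ} (h : (i : ZMod s) = (j : ZMod s)) : y ^ i = y ^ j := by
  rw [pow_eq_pow_iff_modEq, hy]
  exact (ZMod.natCast_eq_natCast_iff _ _ _).1 h

theorem cast_eq_of_pow {y : K} (hy : orderOf y = s) {i j : ℕ} (h : y ^ i = y ^ j) : (i : ZMod s) = (j : ZMod s) := by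
  rw [pow_eq_pow_iff_modEq, hy] at h
  exact (ZMod.natCast_eq_natCast_iff _ _ _).2 h

/-- the exponents of the conjugates of `y` in `⟨y⟩` -/
def J (y : K) (hy : orderOf y = s) (hs : s.Prime) : Subgroup (ZMod s)ˣ where
  carrier := {u | ∃ k : K, ∀ m : ℕ, (m : ZMod s) = u → k * y * k⁻¹ = y ^ m}
  one_mem' := by
    refine ⟨1, fun m hm => ?_⟩
    have h1 : y ^ m = y ^ 1 := pow_eq_of_cast hy (by rw [hm]; simp)
    rw [h1]; simp
  mul_mem' := by
    have : Fact s.Prime := ⟨hs⟩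
    rintro u₁ u₂ ⟨k₁, h₁⟩ ⟨k₂, h₂⟩
    refine ⟨k₁ * k₂, fun m hm => ?_⟩
    have e1 := h₁ (u₁ : ZMod s).val (ZMod.natCast_zmod_val _)
    have e2 := h₂ (u₂ : ZMod s).val (ZMod.natCast_zmod_val _)
    have e3 : k₁ * k₂ * y * (k₁ * k₂)⁻¹ = k₁ * (k₂ * y * k₂⁻¹) * k₁⁻¹ := by group
    rw [e3, e2, ← conj_pow, e1, ← pow_mul]
    apply pow_eq_of_cast hy
    push_cast
    rw [ZMod.natCast_zmod_val, ZMod.natCast_zmod_val, hm, Units.val_mul]
  inv_mem' := by
    have : Fact s.Prime := ⟨hs⟩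
    rintro u ⟨k, h⟩
    refine ⟨k⁻¹, fun m hm => ?_⟩
    have e1 := h (u : ZMod s).val (ZMod.natCast_zmod_val _)
    have e2 : y = (k⁻¹ * y * k⁻¹⁻¹) ^ (u : ZMod s).val := by
      rw [conj_pow, ← e1]
      group
    have e3 : (k⁻¹ * y * k⁻¹⁻¹) ^ s = 1 := by
      rw [conj_pow, ← hy, pow_orderOf_eq_one]
      group
    have e4 : orderOf (k⁻¹ * y * k⁻¹⁻¹) = s := by
      refine orderOf_eq_prime e3 ?_
      rw [Ne, conj_eq_one_iff]
      rintro rfl
      rw [orderOf_one] at hy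
      exact hs.one_lt.ne hy
    nth_rewrite 2 [e2]
    rw [← pow_mul]
    have e5 : (k⁻¹ * y * k⁻¹⁻¹) ^ ((u : ZMod s).val * m) = (k⁻¹ * y * k⁻¹⁻¹) ^ 1 := by
      apply pow_eq_of_cast e4
      push_cast
      rw [ZMod.natCast_zmod_val, hm, ← Units.val_mul, mul_inv_cancel]
      rfl
    rw [e5, pow_one]

theorem card_J (y : K) (hy : orderOf y = s) (hs : s.Prime) : Nat.card (J y hy hs) = fus 1 y := by
  have : Fact s.Prime := ⟨hs⟩
  unfold fus
  set T := {z : K // z ∈ zpowers y ∧ ∃ α ∈ Subgroup.closure ({1} ∪ Set.range (MulAut.conj : K → MulAut K)), α y = z}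
    with hT
  have hfo : IsOfFinOrder y := by
    rw [← orderOf_pos_iff, hy]
    exact hs.pos
  refine Nat.card_eq_of_bijective (fun u : J y hy hs => (⟨y ^ ((u : (ZMod s)ˣ) : ZMod s).val, ?_, ?_⟩ : T)) ⟨?_, ?_⟩
  · exact pow_mem (mem_zpowers y) _
  · obtain ⟨k, hk⟩ := u.2
    refine ⟨MulAut.conj k, subset_closure (Or.inr ⟨k, rfl⟩), ?_⟩
    rw [MulAut.conj_apply]
    exact hk _ (ZMod.natCast_zmod_val _)
  · intro u w huw
    have h1 : y ^ ((u : (ZMod s)ˣ) : ZMod s).val = y ^ ((w : (ZMod s)ˣ) : ZMod s).val := congrArg Subtype.val huw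
    have h2 := cast_eq_of_pow hy h1
    rw [ZMod.natCast_zmod_val, ZMod.natCast_zmod_val] at h2
    exact Subtype.ext (Units.ext h2)
  · rintro ⟨z, hz, α, hα, hαz⟩
    obtain ⟨k, rfl⟩ := mem_closure_conj hα
    rw [MulAut.conj_apply] at hαz
    obtain ⟨j, hj⟩ := hfo.mem_powers_iff_mem_zpowers.2 hz
    have hj' : y ^ j = z := hj
    have hj0 : (j : ZMod s) ≠ 0 := by
      intro h0
      have h1 : y ^ j = y ^ 0 := pow_eq_of_cast hy (by rw [h0]; simp)
      rw [hj', pow_zero, ← hαz, conj_eq_one_iff] at h1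
      rw [h1, orderOf_one] at hy
      exact hs.one_lt.ne hy
    refine ⟨⟨Units.mk0 (j : ZMod s) hj0, k, fun m hm => ?_⟩, ?_⟩
    · rw [hαz, ← hj']
      exact pow_eq_of_cast hy (by rw [hm]; rfl)
    · apply Subtype.ext
      show y ^ (j : ZMod s).val = z
      rw [← hj']
      exact pow_eq_of_cast hy (ZMod.natCast_zmod_val _)

/-- a generator -/
theorem exists_gen {y : K} (hs : s.Prime) (hy : orderOf y = s) :
    ∃ v : ℕ, (∃ k : K, k * y * k⁻¹ = y ^ v) ∧ orderOf (v : ZMod s) = fus 1 y := by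
  have : Fact s.Prime := ⟨hs⟩
  obtain ⟨u, hu⟩ := IsCyclic.exists_generator (α := J y hy hs)
  have h1 := orderOf_eq_card_of_forall_mem_zpowers hu
  obtain ⟨k, hk⟩ := u.2
  refine ⟨((u : (ZMod s)ˣ) : ZMod s).val, ⟨k, hk _ (ZMod.natCast_zmod_val _)⟩, ?_⟩
  rw [ZMod.natCast_zmod_val, orderOf_units, Subgroup.orderOf_coe, h1, card_J]

end

end Cfsg.Agent.H998.PiCy
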