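import Mathlib.LinearAlgebra.Matrix.Charpoly.Coeff
import Mathlib.LinearAlgebra.Matrix.Charpoly.Eigs
import Mathlib.RingTheory.Polynomial.Cyclotomic.Roots
import Mathlib.FieldTheory.IsAlgClosed.Basic
import Mathlib.Analysis.Complex.Polynomial.Basic
import Mathlib.Data.Nat.Totient
import Mathlib.Tactic.NormNum.Prime
import Mathlib.Tactic.IntervalCases

/-!
# S4324, CY: eigenvalues modulo `s` of an integral matrix of finite order
-/

set_option autoImplicit false

namespace Cfsg.Agent.H998.PiCy.Lat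

open Polynomial

/-- a monic integral polynomial whose complex roots are roots of unity, with a root `i` mod `s` -/
theorem poly {s : ℕ} [Fact s.Prime] (n : ℕ) (P : ℤ[X]) (hP : P.Monic) (hn : P.natDegree = n)
    (hroot : ∀ z : ℂ, aeval z P = 0 → ∃ N, 0 < N ∧ z ^ N = 1) {i : ZMod s} (hi : aeval i P = 0) :
    ∃ d, 0 < d ∧ d.totient ≤ n ∧ i ^ d = 1 := by
  induction n using Nat.strong_induction_on generalizing P with
  | _ n ih =>
    rcases Nat.eq_zero_or_pos n with h0 | h0
    · exfalso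
      have h1 : P = 1 := hP.natDegree_eq_zero.1 (hn.trans h0)
      rw [h1] at hi
      simp at hi
    · have hdeg : (P.map (Int.castRingHom ℂ)).degree ≠ 0 := by
        rw [hP.degree_map, degree_eq_natDegree hP.ne_zero, hn]
        exact_mod_cast h0.ne'
      obtain ⟨z, hz⟩ := IsAlgClosed.exists_root (P.map (Int.castRingHom ℂ)) hdeg
      have hz1 : aeval z P = 0 := by
        rw [IsRoot.def, eval_map] at hz
        rw [aeval_def]
        exact hz
      obtain ⟨N, hN, hzN⟩ := hroot z hz1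
      have hd : 0 < orderOf z := orderOf_pos_iff.2 (isOfFinOrder_iff_pow_eq_one.2 ⟨N, hN, hzN⟩)
      have hprim : IsPrimitiveRoot z (orderOf z) := IsPrimitiveRoot.orderOf z
      have hdvd : cyclotomic (orderOf z) ℤ ∣ P := by
        rw [cyclotomic_eq_minpoly hprim hd]
        exact minpoly.isIntegrallyClosed_dvd (hprim.isIntegral hd) hz1
      obtain ⟨Q, hQ⟩ := hdvd
      have hQm : Q.Monic := (cyclotomic.monic (orderOf z) ℤ).of_mul_monic_left (hQ ▸ hP)
      have hsum : (orderOf z).totient + Q.natDegree = n := by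
        rw [← hn, hQ, (cyclotomic.monic (orderOf z) ℤ).natDegree_mul hQm, natDegree_cyclotomic]
      have htot : 0 < (orderOf z).totient := Nat.totient_pos.2 hd
      rw [hQ, map_mul, mul_eq_zero] at hi
      rcases hi with hi | hi
      · refine ⟨orderOf z, hd, by omega, ?_⟩
        obtain ⟨R, hR⟩ := cyclotomic.dvd_X_pow_sub_one (orderOf z) ℤ
        have h2 := congrArg (aeval i) hR
        rw [map_mul, hi, zero_mul, map_sub, map_pow, aeval_X, map_one] at h2
        exact sub_eq_zero.1 h2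
      · obtain ⟨d, h1, h2, h3⟩ := ih Q.natDegree (by omega) Q hQm rfl (fun w hw => hroot w (by
          rw [hQ, map_mul, hw, mul_zero])) hi
        exact ⟨d, h1, h2.trans (by omega), h3⟩

/-- the eigenvalues mod `s` of an integral matrix of finite order -/
theorem exists_totient {l : ℕ} (M : Matrix (Fin l) (Fin l) ℤ) {N : ℕ} (hN : 0 < N) (hM : M ^ N = 1) {s : ℕ}
    [Fact s.Prime] {i : ZMod s} {v : Fin l → ZMod s} (hv : v ≠ 0)
    (h : (M.map (Int.castRingHom (ZMod s))).mulVec v = i • v) :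
    ∃ d, 0 < d ∧ d.totient ≤ l ∧ i ^ d = 1 := by
  refine poly l M.charpoly M.charpoly_monic (by rw [M.charpoly_natDegree_eq_dim, Fintype.card_fin]) ?_ ?_
  · intro z hz
    refine ⟨N, hN, ?_⟩
    have h1 : (Matrix.scalar (Fin l) z - M.map (Int.castRingHom ℂ)).det = 0 := by
      rw [← Matrix.eval_charpoly, Matrix.charpoly_map, eval_map]
      rw [aeval_def] at hz
      exact hz
    obtain ⟨w, hw, hw1⟩ := Matrix.exists_mulVec_eq_zero_iff.2 h1
    have h2 : (M.map (Int.castRingHom ℂ)).mulVec w = z • w := by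
      rw [Matrix.sub_mulVec, sub_eq_zero] at hw1
      rw [← hw1]
      simp [Matrix.scalar_apply, ← Matrix.smul_one_eq_diagonal, Matrix.smul_mulVec]
    have h3 : ∀ k : ℕ, ((M.map (Int.castRingHom ℂ)) ^ k).mulVec w = z ^ k • w := by
      intro k
      induction k with
      | zero => simp
      | succ k ih =>
        rw [pow_succ, ← Matrix.mulVec_mulVec, h2, Matrix.mulVec_smul, ih, smul_smul, pow_succ, mul_comm]
    have h4 := h3 N
    have h5 : (M.map (Int.castRingHom ℂ)) ^ N = 1 := by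
      have h6 := congrArg (Int.castRingHom ℂ).mapMatrix hM
      rw [map_pow, map_one] at h6
      exact h6
    rw [h5, Matrix.one_mulVec] at h4
    obtain ⟨j, hj⟩ := Function.ne_iff.1 hw
    have h7 := congrFun h4 j
    rw [Pi.smul_apply, smul_eq_mul] at h7
    exact mul_right_cancel₀ hj (by rw [one_mul]; exact h7.symm)
  · have h1 : (Matrix.scalar (Fin l) i - M.map (Int.castRingHom (ZMod s))).det = 0 := by
      refine Matrix.exists_mulVec_eq_zero_iff.1 ⟨v, hv, ?_⟩
      rw [Matrix.sub_mulVec, sub_eq_zero, h]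
      simp [Matrix.scalar_apply, ← Matrix.smul_one_eq_diagonal, Matrix.smul_mulVec]
    rw [← Matrix.eval_charpoly, Matrix.charpoly_map, eval_map] at h1
    rw [aeval_def]
    exact h1

/-- numbers with small totient divide a product of small prime powers -/
theorem dvd_of_totient {d k B : ℕ} (hd : 0 < d) (h : d.totient ≤ k) (hk : k ≤ 8) (hB : B = 5040) : d ∣ B := by
  subst hB
  have key : ∀ m, m ∣ d → m.totient ≤ 8 := fun m hm =>
    (Nat.le_of_dvd (Nat.totient_pos.2 hd) (Nat.totient_dvd_of_dvd hm)).trans (h.trans hk)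
  rw [Nat.dvd_iff_prime_pow_dvd_dvd]
  intro p j hp hj
  rcases Nat.eq_zero_or_pos j with rfl | hj0
  · simp
  have hp9 : p ≤ 9 := by
    have h1 := key p ((dvd_pow_self p hj0.ne').trans hj)
    rw [Nat.totient_prime hp] at h1
    omega
  have hpow : ∀ e, j < e ∨ (p ^ e).totient ≤ 8 := by
    intro e
    rcases lt_or_ge j e with h1 | h1
    · exact Or.inl h1
    · exact Or.inr (key _ ((pow_dvd_pow p h1).trans hj))
  interval_cases p
  · exact absurd hp (by norm_num)
  · exact absurd hp (by norm_num)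
  · rcases hpow 5 with h1 | h1
    · exact (pow_dvd_pow 2 (by omega : j ≤ 4)).trans (by norm_num)
    · exact absurd h1 (by rw [Nat.totient_prime_pow Nat.prime_two (by norm_num)]; norm_num)
  · rcases hpow 3 with h1 | h1
    · exact (pow_dvd_pow 3 (by omega : j ≤ 2)).trans (by norm_num)
    · exact absurd h1 (by rw [Nat.totient_prime_pow Nat.prime_three (by norm_num)]; norm_num)
  · exact absurd hp (by norm_num)
  · rcases hpow 2 with h1 | h1
    · exact (pow_dvd_pow 5 (by omega : j ≤ 1)).trans (by norm_num)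
    · exact absurd h1 (by rw [Nat.totient_prime_pow Nat.prime_five (by norm_num)]; norm_num)
  · exact absurd hp (by norm_num)
  · rcases hpow 2 with h1 | h1
    · exact (pow_dvd_pow 7 (by omega : j ≤ 1)).trans (by norm_num)
    · exact absurd h1 (by rw [Nat.totient_prime_pow Nat.prime_seven (by norm_num)]; norm_num)
  · exact absurd hp (by norm_num)
  · exact absurd hp (by norm_num)

/-- `φ(d) ≤ 8 → d ≤ 30`, `φ(d) ≤ 7 → d ≤ 18`, `φ(d) ≤ 4 → d ≤ 12`, `φ(d) ≤ 2 → d ≤ 6` -/
theorem le_table : ∀ d ∈ Nat.divisors 5040, (d.totient ≤ 8 → d ≤ 30) ∧ (d.totient ≤ 7 → d ≤ 18) ∧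
    (d.totient ≤ 4 → d ≤ 12) ∧ (d.totient ≤ 2 → d ≤ 6) := by
  decide +kernel

theorem le_of_totient {d : ℕ} (hd : 0 < d) : (d.totient ≤ 8 → d ≤ 30) ∧ (d.totient ≤ 7 → d ≤ 18) ∧
    (d.totient ≤ 4 → d ≤ 12) ∧ (d.totient ≤ 2 → d ≤ 6) := by
  have key : ∀ k, k ≤ 8 → d.totient ≤ k → d ∈ Nat.divisors 5040 := fun k hk h =>
    Nat.mem_divisors.2 ⟨dvd_of_totient hd h hk rfl, by norm_num⟩
  exact ⟨fun h => (le_table d (key 8 (by norm_num) h)).1 h, fun h => (le_table d (key 7 (by norm_num) h)).2.1 h,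
    fun h => (le_table d (key 4 (by norm_num) h)).2.2.1 h, fun h => (le_table d (key 2 (by norm_num) h)).2.2.2 h⟩

/-- the bound for the rank `l` -/
def bd (l : ℕ) : ℕ := if l ≤ 2 then 6 else if l ≤ 4 then 12 else if l ≤ 7 then 18 else 30

theorem le_bd {d l : ℕ} (hd : 0 < d) (hl : l ≤ 8) (h : d.totient ≤ l) : d ≤ bd l := by
  have h1 := le_of_totient hd
  unfold bd
  split_ifs with h2 h3 h4
  · exact h1.2.2.2 (h.trans h2)
  · exact h1.2.2.1 (h.trans h3)
  · exact h1.2.1 (h.trans h4)
  · exact h1.1 (h.trans hl)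

end Cfsg.Agent.H998.PiCy.Lat
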